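import Cfsg.Agent.Lib.Semisimple.GL
import Cfsg.Agent.Lib.Conj.Unitary

/-!
The centraliser of a semisimple unitary matrix in the unitary group has determinants of every norm one.
-/

set_option autoImplicit false

namespace CfsgLib.Semisimple.Unitary

open Matrix Module

variable {K : Type*} [Field K] (φ : K →+* K)

/-- Conjugate transpose of a rectangular matrix. -/
def ct {α β : Type*} (M : Matrix α β K) : Matrix β α K := (M.map φ)ᵀ

theorem ct_mul {α β γ : Type*} [Fintype β] (a : Matrix α β K) (b : Matrix β γ K) :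
    ct φ (a * b) = ct φ b * ct φ a := by
  rw [ct, Matrix.map_mul, Matrix.transpose_mul]
  rfl

theorem ct_one {α : Type*} [DecidableEq α] : ct φ (1 : Matrix α α K) = 1 := by
  rw [ct, Matrix.map_one φ (map_zero φ) (map_one φ), Matrix.transpose_one]

theorem ct_ct {α β : Type*} (hφ : ∀ x, φ (φ x) = x) (M : Matrix α β K) : ct φ (ct φ M) = M := by
  ext i j
  simp [ct, hφ]

theorem ct_add {α β : Type*} (a b : Matrix α β K) : ct φ (a + b) = ct φ a + ct φ b := by
  ext i j
  simp [ct]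

theorem ct_sub {α β : Type*} (a b : Matrix α β K) : ct φ (a - b) = ct φ a - ct φ b := by
  ext i j
  simp [ct]

theorem ct_smul {α β : Type*} (c : K) (a : Matrix α β K) : ct φ (c • a) = φ c • ct φ a := by
  ext i j
  simp [ct]

theorem det_ct {α : Type*} [Fintype α] [DecidableEq α] (M : Matrix α α K) :
    (ct φ M).det = φ M.det := by
  rw [ct, Matrix.det_transpose, RingHom.map_det, RingHom.mapMatrix_apply]

theorem ct_inv {α : Type*} [Fintype α] [DecidableEq α] (M : Matrix α α K) (h : IsUnit M.det) :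
    ct φ M⁻¹ = (ct φ M)⁻¹ := by
  refine (Matrix.inv_eq_right_inv ?_).symm
  rw [← ct_mul, Matrix.nonsing_inv_mul _ h, ct_one]

theorem hermitian_gram {α β : Type*} [Fintype α] (hφ : ∀ x, φ (φ x) = x) (B : Matrix α β K) :
    ct φ (ct φ B * B) = ct φ B * B := by
  rw [ct_mul, ct_ct φ hφ]

/-- A unitary automorphism of a nondegenerate subspace extends to a unitary matrix with the same determinant. -/
theorem exists_extend (hφ : ∀ x, φ (φ x) = x) {n : ℕ} {β : Type*} [Fintype β] [DecidableEq β]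
    (A : Matrix (Fin n) (Fin n) K) (hA : ct φ A * A = 1) (B : Matrix (Fin n) β K) (a : Matrix β β K)
    (hB : A * B = B * a) (hG : IsUnit (ct φ B * B).det) (y : Matrix β β K) (hya : y * a = a * y)
    (hy : ct φ y * (ct φ B * B) * y = ct φ B * B) :
    ∃ u : Matrix (Fin n) (Fin n) K, ct φ u * u = 1 ∧ u * A = A * u ∧ u.det = y.det := by
  set G := ct φ B * B with hGdef
  have hGs : ct φ G = G := hermitian_gram φ hφ B
  have hGi : G⁻¹ * G = 1 := Matrix.nonsing_inv_mul _ hG
  have hGj : G * G⁻¹ = 1 := Matrix.mul_nonsing_inv _ hG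
  have hGis : ct φ G⁻¹ = G⁻¹ := by rw [ct_inv φ _ hG, hGs]
  have hcBA : ct φ B = ct φ a * ct φ B * A := by
    rw [← ct_mul, ← hB, ct_mul, Matrix.mul_assoc, hA, Matrix.mul_one]
  have ha : ct φ a * G * a = G := by
    conv_rhs => rw [hGdef, hcBA, Matrix.mul_assoc, hB, ← Matrix.mul_assoc, Matrix.mul_assoc (ct φ a),
      ← hGdef]
  have ha' : a * G⁻¹ * ct φ a = G⁻¹ := by
    have h1 : ct φ a * (G * a * G⁻¹) = 1 := by
      rw [← Matrix.mul_assoc, ← Matrix.mul_assoc, ha, hGj]
    have h2 : G * a * G⁻¹ * ct φ a = 1 := mul_eq_one_comm.1 h1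
    calc a * G⁻¹ * ct φ a = G⁻¹ * G * (a * G⁻¹ * ct φ a) := by rw [hGi, Matrix.one_mul]
      _ = G⁻¹ * (G * a * G⁻¹ * ct φ a) := by simp only [Matrix.mul_assoc]
      _ = G⁻¹ := by rw [h2, Matrix.mul_one]
  set Z := G⁻¹ * ct φ B with hZ
  have hZB : Z * B = 1 := by rw [hZ, Matrix.mul_assoc, ← hGdef, hGi]
  have hGZ : G * Z = ct φ B := by rw [hZ, ← Matrix.mul_assoc, hGj, Matrix.one_mul]
  have hZA : Z * A = a * Z := by
    have h1 : a * Z = a * G⁻¹ * ct φ a * ct φ B * A := by
      rw [hZ]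
      conv_lhs => rw [hcBA]
      simp only [Matrix.mul_assoc]
    rw [h1, ha']
  have hctZ : ct φ Z = B * G⁻¹ := by rw [hZ, ct_mul, ct_ct φ hφ, hGis]
  refine ⟨1 + B * ((y - 1) * Z), ?_, ?_, ?_⟩
  · have e2 : ct φ B * (1 + B * ((y - 1) * Z)) = G * y * Z := by
      calc ct φ B * (1 + B * ((y - 1) * Z)) = G * Z + ct φ B * B * ((y - 1) * Z) := by
            rw [Matrix.mul_add, Matrix.mul_one, hGZ, Matrix.mul_assoc (ct φ B) B]
        _ = G * y * Z := by
            rw [← hGdef, Matrix.sub_mul, Matrix.one_mul, Matrix.mul_sub, Matrix.mul_assoc G y]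
            abel
    calc ct φ (1 + B * ((y - 1) * Z)) * (1 + B * ((y - 1) * Z))
        = (1 + B * ((y - 1) * Z)) + B * G⁻¹ * (ct φ y - 1) * (ct φ B * (1 + B * ((y - 1) * Z))) := by
          rw [ct_add, ct_one, Matrix.add_mul, Matrix.one_mul, ct_mul, ct_mul, ct_sub, ct_one, hctZ]
          simp only [Matrix.mul_assoc]
      _ = (1 + B * ((y - 1) * Z)) + B * (G⁻¹ * (ct φ y * G * y) - G⁻¹ * G * y) * Z := by
          rw [e2]
          simp only [Matrix.mul_sub, Matrix.sub_mul, Matrix.mul_one, Matrix.mul_assoc]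
      _ = 1 := by
          rw [hy, hGi, Matrix.one_mul]
          simp only [Matrix.mul_sub, Matrix.sub_mul, Matrix.mul_one, Matrix.one_mul, Matrix.mul_assoc]
          abel
  · have hc : (y - 1) * a = a * (y - 1) := by
      rw [Matrix.sub_mul, Matrix.mul_sub, hya, Matrix.one_mul, Matrix.mul_one]
    rw [Matrix.add_mul, Matrix.mul_add, Matrix.one_mul, Matrix.mul_one, Matrix.mul_assoc B, Matrix.mul_assoc (y - 1),
      hZA, ← Matrix.mul_assoc (y - 1), hc, ← Matrix.mul_assoc A, hB, Matrix.mul_assoc B, Matrix.mul_assoc a]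
  · rw [Matrix.det_one_add_mul_comm, Matrix.mul_assoc, hZB, Matrix.mul_one, add_sub_cancel]

theorem exists_cols {n : ℕ} (U : Submodule K (Fin n → K)) :
    ∃ B : Matrix (Fin n) (Fin (finrank K U)) K,
      (∀ x, B *ᵥ x ∈ U) ∧ (∀ v ∈ U, ∃ x, B *ᵥ x = v) ∧ Function.Injective (B *ᵥ ·) := by
  let b := Module.finBasis K U
  let B : Matrix (Fin n) (Fin (finrank K U)) K := Matrix.of fun i j => (b j : Fin n → K) i
  have e : ∀ x, B *ᵥ x = ((b.equivFun.symm x : U) : Fin n → K) := fun x => by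
    funext i
    rw [Basis.equivFun_symm_apply, Submodule.coe_sum, Finset.sum_apply]
    simp [B, Matrix.mulVec, dotProduct, mul_comm]
  refine ⟨B, fun x => by rw [e]; exact (b.equivFun.symm x).2,
    fun v hv => ⟨b.equivFun ⟨v, hv⟩, by rw [e, LinearEquiv.symm_apply_apply]⟩, fun x y h => ?_⟩
  simp only [e] at h
  exact b.equivFun.symm.injective (Subtype.ext h)

theorem exists_restrict {n k : ℕ} (A : Matrix (Fin n) (Fin n) K) (U : Submodule K (Fin n → K))
    (hinv : ∀ v ∈ U, A *ᵥ v ∈ U) (B : Matrix (Fin n) (Fin k) K) (h1 : ∀ x, B *ᵥ x ∈ U)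
    (h2 : ∀ v ∈ U, ∃ x, B *ᵥ x = v) : ∃ a : Matrix (Fin k) (Fin k) K, A * B = B * a := by
  choose f hf using fun j => h2 _ (hinv _ (h1 (Pi.single j 1)))
  refine ⟨Matrix.of fun i j => f j i, Matrix.ext_of_mulVec_single fun j => ?_⟩
  rw [← Matrix.mulVec_mulVec, ← Matrix.mulVec_mulVec, ← hf j]
  congr 1
  funext i
  simp

/-- A field element of norm one is `z / φ z`. -/
theorem exists_hilbert (hφ : ∀ x, φ (φ x) = x) (hw : ∃ w, φ w ≠ w) (d : K) (hd : d * φ d = 1) :
    ∃ z : K, z ≠ 0 ∧ φ z * d = z := by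
  obtain ⟨w, hw⟩ := hw
  obtain ⟨x, hx⟩ : ∃ x : K, x + d * φ x ≠ 0 := by
    by_contra h
    push Not at h
    have h1 := h 1
    rw [map_one, mul_one] at h1
    have h2 := h w
    rw [show d = -1 by linear_combination h1] at h2
    exact hw (by linear_combination -h2)
  refine ⟨x + d * φ x, hx, ?_⟩
  rw [map_add, map_mul, hφ]
  linear_combination x * hd

variable [Fintype K]

/-- Every norm one element is the determinant of a unitary matrix commuting with a given semisimple one. -/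
theorem exists_commute_det (p : ℕ) [Fact p.Prime] [CharP K p] (hφ : ∀ x, φ (φ x) = x) (hw : ∃ w, φ w ≠ w)
    {n : ℕ} (hn : 1 ≤ n) (g : GL (Fin n) K) (hg : (orderOf g).Coprime p)
    (hgU : ct φ (g : Matrix (Fin n) (Fin n) K) * (g : Matrix (Fin n) (Fin n) K) = 1) (d : K) (hd : d * φ d = 1) :
    ∃ u : Matrix (Fin n) (Fin n) K, ct φ u * u = 1 ∧
      u * (g : Matrix (Fin n) (Fin n) K) = (g : Matrix (Fin n) (Fin n) K) * u ∧ u.det = d := by
  classical
  set A := (g : Matrix (Fin n) (Fin n) K) with hAdef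
  obtain ⟨z, hz0, hz⟩ := exists_hilbert φ hφ hw d hd
  -- a minimal invariant subspace
  have hex : ∃ k, ∃ U : Submodule K (Fin n → K), U ≠ ⊥ ∧ (∀ v ∈ U, A *ᵥ v ∈ U) ∧ finrank K U = k :=
    ⟨_, ⊤, by
      have : Nonempty (Fin n) := ⟨⟨0, hn⟩⟩
      exact top_ne_bot, fun _ _ => trivial, rfl⟩
  obtain ⟨U, hU0, hUinv, hUk⟩ := Nat.find_spec hex
  have hUmin : ∀ W : Submodule K (Fin n → K), W ≠ ⊥ → (∀ v ∈ W, A *ᵥ v ∈ W) → finrank K U ≤ finrank K W :=
    fun W h1 h2 => hUk.le.trans (Nat.find_min' hex ⟨W, h1, h2, rfl⟩)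
  set k := finrank K U
  obtain ⟨B, hB1, hB2, hBinj⟩ := exists_cols U
  obtain ⟨a, hBa⟩ := exists_restrict A U hUinv B hB1 hB2
  have hsimple : ∀ S : Submodule K (Fin k → K), (∀ x ∈ S, a *ᵥ x ∈ S) → S = ⊥ ∨ S = ⊤ := by
    intro S hS
    by_cases h0 : S = ⊥
    · exact Or.inl h0
    refine Or.inr (Submodule.eq_top_of_finrank_eq (le_antisymm (Submodule.finrank_le S) ?_))
    have hne : S.map B.mulVecLin ≠ ⊥ := fun h => h0 (Submodule.map_injective_of_injective
      (f := B.mulVecLin) hBinj (by rw [h, Submodule.map_bot]))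
    have hinv : ∀ v ∈ S.map B.mulVecLin, A *ᵥ v ∈ S.map B.mulVecLin := by
      rintro _ ⟨x, hx, rfl⟩
      exact ⟨a *ᵥ x, hS x hx, by
        simp only [Matrix.mulVecLin_apply, Matrix.mulVec_mulVec, hBa]⟩
    have := hUmin _ hne hinv
    rw [← (Submodule.equivMapOfInjective B.mulVecLin hBinj S).finrank_eq] at this
    rw [finrank_fin_fun]
    exact this
  have hk : 0 < k := Nat.pos_of_ne_zero fun h => hU0 (Submodule.finrank_eq_zero.1 h)
  -- the restriction is semisimple and its centraliser has surjective determinant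
  have haN : a ^ orderOf g = 1 := by
    have h1 : ∀ m : ℕ, A ^ m * B = B * a ^ m := fun m => by
      induction m with
      | zero => simp
      | succ m ih => rw [pow_succ, pow_succ, Matrix.mul_assoc, hBa, ← Matrix.mul_assoc, ih, Matrix.mul_assoc]
    refine Matrix.ext_of_mulVec_single fun j => hBinj ?_
    show B *ᵥ (a ^ orderOf g *ᵥ Pi.single j 1) = B *ᵥ ((1 : Matrix _ _ K) *ᵥ Pi.single j 1)
    rw [Matrix.mulVec_mulVec, ← h1, hAdef, ← Units.val_pow_eq_pow_val, pow_orderOf_eq_one, Units.val_one,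
      Matrix.one_mul, Matrix.one_mulVec]
  have hN0 : orderOf g ≠ 0 := (orderOf_pos g).ne'
  obtain ⟨a', ha'⟩ : IsUnit a := (isUnit_pow_iff hN0).1 (by rw [haN]; exact isUnit_one)
  have : Nonempty (Fin k) := ⟨⟨0, hk⟩⟩
  have hcop : (orderOf a').Coprime p := hg.coprime_dvd_left (orderOf_dvd_of_pow_eq_one
    (Units.ext (by rw [Units.val_pow_eq_pow_val, ha', haN, Units.val_one])))
  obtain ⟨y, hydet, hyc⟩ := exists_commute_det_eq p a' hcop z hz0
  have hya : (y : Matrix (Fin k) (Fin k) K) * a = a * y := by rw [← ha']; exact congrArg Units.val hyc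
  have hyd : IsUnit (y : Matrix (Fin k) (Fin k) K).det := hydet ▸ hz0.isUnit
  obtain ⟨G, hGdef⟩ : ∃ G, G = ct φ B * B := ⟨_, rfl⟩
  have hcBA : ct φ B = ct φ a * ct φ B * A := by
    rw [← ct_mul, ← hBa, ct_mul, Matrix.mul_assoc, hgU, Matrix.mul_one]
  have haG : ct φ a * G * a = G := by
    conv_rhs => rw [hGdef, hcBA, Matrix.mul_assoc, hBa, ← Matrix.mul_assoc, Matrix.mul_assoc (ct φ a),
      ← hGdef]
  have haU : IsUnit a.det := (Matrix.isUnit_iff_isUnit_det a).1 ⟨a', ha'⟩
  have hca : IsUnit (ct φ a).det := by rw [det_ct]; exact haU.map φ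
  have hcy : IsUnit (ct φ (y : Matrix (Fin k) (Fin k) K)).det := by rw [det_ct]; exact hyd.map φ
  have hdd : d = z * (φ z)⁻¹ := by
    rw [eq_mul_inv_iff_mul_eq₀ (fun h => hz0 (φ.injective (h.trans (map_zero φ).symm)))]
    linear_combination hz
  rcases hsimple (LinearMap.ker G.mulVecLin) (fun x hx => by
      rw [LinearMap.mem_ker, Matrix.mulVecLin_apply] at hx ⊢
      have h2 : ct φ a *ᵥ (G *ᵥ (a *ᵥ x)) = ct φ a *ᵥ 0 := by
        rw [Matrix.mulVec_mulVec, Matrix.mulVec_mulVec, haG, hx, Matrix.mulVec_zero]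
      exact Matrix.mulVec_injective_iff_isUnit.2 ((Matrix.isUnit_iff_isUnit_det _).2 hca) h2) with hG | hG
  · -- a nondegenerate simple subspace: its commutant is commutative
    have hGu : IsUnit G.det := (Matrix.isUnit_iff_isUnit_det G).1 (Matrix.mulVec_injective_iff_isUnit.1
      (LinearMap.ker_eq_bot.1 hG))
    have hcyc : ∀ b : Matrix (Fin k) (Fin k) K, b * a = a * b →
        b * (y : Matrix (Fin k) (Fin k) K) = (y : Matrix (Fin k) (Fin k) K) * b := by
      intro b hb
      set v : Fin k → K := Pi.single ⟨0, hk⟩ 1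
      have hC : LinearMap.range (LinearMap.mk₂ K (fun (P : Polynomial K) (w : Fin k → K) =>
          Polynomial.aeval a P *ᵥ w) (fun P Q w => by simp [Matrix.add_mulVec])
          (fun c P w => by simp [Matrix.smul_mulVec]) (fun P w w' => Matrix.mulVec_add _ _ _)
          (fun c P w => Matrix.mulVec_smul _ _ _) |>.flip v) = ⊤ := by
        refine (hsimple _ ?_).resolve_left ?_
        · rintro _ ⟨P, rfl⟩
          exact ⟨Polynomial.X * P, by simp [Matrix.mulVec_mulVec]⟩
        · intro h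
          have h1 : v ∈ (⊥ : Submodule K (Fin k → K)) := h ▸ ⟨1, by simp⟩
          have h2 := congr_fun ((Submodule.mem_bot K).1 h1) ⟨0, hk⟩
          simp [v] at h2
      have poly : ∀ b : Matrix (Fin k) (Fin k) K, b * a = a * b →
          ∃ P : Polynomial K, b = Polynomial.aeval a P := by
        intro b hb
        obtain ⟨P, hP⟩ := (LinearMap.range_eq_top.1 hC) (b *ᵥ v)
        simp only [LinearMap.flip_apply, LinearMap.mk₂_apply] at hP
        refine ⟨P, Matrix.ext_of_mulVec_single fun j => ?_⟩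
        obtain ⟨Q, hQ⟩ := (LinearMap.range_eq_top.1 hC) (Pi.single j 1)
        simp only [LinearMap.flip_apply, LinearMap.mk₂_apply] at hQ
        have hbQ : b * Polynomial.aeval a Q = Polynomial.aeval a Q * b :=
          ((Algebra.commute_of_mem_adjoin_singleton_of_commute
            (Polynomial.aeval_mem_adjoin_singleton K a) (hb : Commute b a))).eq
        rw [← hQ, Matrix.mulVec_mulVec, Matrix.mulVec_mulVec, hbQ, ← map_mul, mul_comm, map_mul,
          ← Matrix.mulVec_mulVec, ← Matrix.mulVec_mulVec, hP]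
      obtain ⟨P, hP⟩ := poly b hb
      obtain ⟨Q, hQ⟩ := poly _ hya
      rw [hP, hQ, ← map_mul, ← map_mul, mul_comm]
    obtain ⟨τy, hτy⟩ : ∃ τy, τy = G⁻¹ * ct φ (y : Matrix (Fin k) (Fin k) K) * G := ⟨_, rfl⟩
    have hGi : G⁻¹ * G = 1 := Matrix.nonsing_inv_mul _ hGu
    have hGj : G * G⁻¹ = 1 := Matrix.mul_nonsing_inv _ hGu
    have hτa : τy * a = a * τy := by
      have e2 : a * G⁻¹ * ct φ a = G⁻¹ := by
        have h1 : ct φ a * (G * a * G⁻¹) = 1 := by rw [← Matrix.mul_assoc, ← Matrix.mul_assoc, haG, hGj]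
        have h2 : G * a * G⁻¹ * ct φ a = 1 := mul_eq_one_comm.1 h1
        calc a * G⁻¹ * ct φ a = G⁻¹ * G * (a * G⁻¹ * ct φ a) := by rw [hGi, Matrix.one_mul]
          _ = G⁻¹ * (G * a * G⁻¹ * ct φ a) := by simp only [Matrix.mul_assoc]
          _ = G⁻¹ := by rw [h2, Matrix.mul_one]
      have e3 : ct φ a * ct φ (y : Matrix (Fin k) (Fin k) K) = ct φ (y : Matrix (Fin k) (Fin k) K) * ct φ a := by
        rw [← ct_mul, ← ct_mul, hya]
      calc τy * a = a * G⁻¹ * ct φ a * ct φ (y : Matrix (Fin k) (Fin k) K) * G * a := by rw [hτy, e2]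
        _ = a * G⁻¹ * (ct φ (y : Matrix (Fin k) (Fin k) K) * (ct φ a * G * a)) := by
            rw [Matrix.mul_assoc (a * G⁻¹) (ct φ a), e3]
            simp only [Matrix.mul_assoc]
        _ = a * τy := by rw [haG, hτy]; simp only [Matrix.mul_assoc]
    have hτu : IsUnit τy.det := by
      rw [hτy, Matrix.det_mul, Matrix.det_mul]
      exact ((Matrix.isUnit_nonsing_inv_det _ hGu).mul hcy).mul hGu
    have hyτ := hcyc τy hτa
    set y' := (y : Matrix (Fin k) (Fin k) K) * τy⁻¹ with hy'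
    have hinva : τy⁻¹ * a = a * τy⁻¹ := by
      calc τy⁻¹ * a = τy⁻¹ * (a * τy) * τy⁻¹ := by
            rw [Matrix.mul_assoc, Matrix.mul_assoc a, Matrix.mul_nonsing_inv _ hτu, Matrix.mul_one]
        _ = a * τy⁻¹ := by rw [← hτa, ← Matrix.mul_assoc τy⁻¹, Matrix.nonsing_inv_mul _ hτu, Matrix.one_mul]
    obtain ⟨u, hu1, hu2, hu3⟩ := exists_extend φ hφ A hgU B a hBa (hGdef ▸ hGu) y' (by
      rw [hy', Matrix.mul_assoc, hinva, ← Matrix.mul_assoc, hya, Matrix.mul_assoc]) (by
      have e1 : ct φ (y : Matrix (Fin k) (Fin k) K) = G * τy * G⁻¹ := by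
        rw [hτy, ← Matrix.mul_assoc, ← Matrix.mul_assoc, hGj, Matrix.one_mul, Matrix.mul_assoc, hGj, Matrix.mul_one]
      have e2 : ct φ τy = G * (y : Matrix (Fin k) (Fin k) K) * G⁻¹ := by
        rw [hτy, ct_mul, ct_mul, ct_inv φ _ hGu, hGdef, hermitian_gram φ hφ, ct_ct φ hφ, ← hGdef, Matrix.mul_assoc]
      have e3 : ct φ τy⁻¹ = G * (y : Matrix (Fin k) (Fin k) K)⁻¹ * G⁻¹ := by
        rw [ct_inv φ _ hτu, e2]
        refine Matrix.inv_eq_right_inv ?_
        calc G * (y : Matrix (Fin k) (Fin k) K) * G⁻¹ * (G * (y : Matrix (Fin k) (Fin k) K)⁻¹ * G⁻¹)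
            = G * ((y : Matrix (Fin k) (Fin k) K) * (G⁻¹ * G) * (y : Matrix (Fin k) (Fin k) K)⁻¹) * G⁻¹ := by
              simp only [Matrix.mul_assoc]
          _ = 1 := by rw [hGi, Matrix.mul_one, Matrix.mul_nonsing_inv _ hyd, Matrix.mul_one, hGj]
      rw [← hGdef]
      calc ct φ y' * G * y' = G * (y : Matrix (Fin k) (Fin k) K)⁻¹ * (G⁻¹ * G) * τy * (G⁻¹ * G) *
            ((y : Matrix (Fin k) (Fin k) K) * τy⁻¹) := by
              rw [hy', ct_mul, e3, e1]; simp only [Matrix.mul_assoc]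
        _ = G * (y : Matrix (Fin k) (Fin k) K)⁻¹ * ((τy * (y : Matrix (Fin k) (Fin k) K)) * τy⁻¹) := by
              rw [hGi]; simp only [Matrix.mul_one, Matrix.mul_assoc]
        _ = G := by
              rw [hyτ, Matrix.mul_assoc (y : Matrix (Fin k) (Fin k) K), Matrix.mul_nonsing_inv _ hτu, Matrix.mul_one,
                Matrix.mul_assoc, Matrix.nonsing_inv_mul _ hyd, Matrix.mul_one])
    refine ⟨u, hu1, hu2, ?_⟩
    rw [hu3, hy', Matrix.det_mul, Matrix.det_nonsing_inv, Ring.inverse_eq_inv, hτy, Matrix.det_mul,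
      Matrix.det_mul, det_ct, Matrix.det_nonsing_inv, Ring.inverse_eq_inv, hydet, hdd]
    have := hGu.ne_zero
    field_simp
  · -- a totally isotropic subspace
    have hG0 : G = 0 := Matrix.ext_of_mulVec_single fun j => by
      have : Pi.single j 1 ∈ LinearMap.ker G.mulVecLin := hG ▸ trivial
      rw [LinearMap.mem_ker, Matrix.mulVecLin_apply] at this
      rw [this, Matrix.zero_mulVec]
    have hperp : ∀ v ∈ LinearMap.ker (ct φ B).mulVecLin, A *ᵥ v ∈ LinearMap.ker (ct φ B).mulVecLin := by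
      intro v hv
      rw [LinearMap.mem_ker, Matrix.mulVecLin_apply] at hv ⊢
      apply Matrix.mulVec_injective_iff_isUnit.2 ((Matrix.isUnit_iff_isUnit_det _).2 hca)
      show ct φ a *ᵥ (ct φ B *ᵥ (A *ᵥ v)) = ct φ a *ᵥ 0
      rw [Matrix.mulVec_mulVec, Matrix.mulVec_mulVec, ← hcBA, hv, Matrix.mulVec_zero]
    have hss : Module.End.IsSemisimple (Matrix.toLin' A) :=
      isSemisimple_of_pow_eq_one _ (cast_orderOf_ne_zero p g hg) (toLin_pow_eq_one g (pow_orderOf_eq_one g))
    obtain ⟨X, hXinv, hX⟩ := Module.End.isSemisimple_iff.1 hss (LinearMap.ker (ct φ B).mulVecLin)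
      (by intro v hv; simpa [Matrix.toLin'_apply] using hperp v hv)
    have hsurj : Function.Surjective (ct φ B).mulVecLin := by
      rw [← LinearMap.range_eq_top]
      refine Submodule.eq_top_of_finrank_eq ?_
      have h1 : (B.map φ).rank = k := by
        obtain ⟨L, hL⟩ : ∃ L : Matrix (Fin k) (Fin n) K, L * B = 1 := by
          obtain ⟨l, hl⟩ := LinearMap.exists_leftInverse_of_injective B.mulVecLin (LinearMap.ker_eq_bot.2 hBinj)
          refine ⟨LinearMap.toMatrix' l, Matrix.toLin'.injective ?_⟩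
          rw [Matrix.toLin'_mul, Matrix.toLin'_toMatrix', Matrix.toLin'_one]
          exact hl
        refine le_antisymm ((Matrix.rank_le_card_width _).trans_eq (Fintype.card_fin k)) ?_
        calc k = (1 : Matrix (Fin k) (Fin k) K).rank := by rw [Matrix.rank_one, Fintype.card_fin]
          _ = ((L.map φ) * (B.map φ)).rank := by
            rw [← Matrix.map_mul, hL, Matrix.map_one φ (map_zero φ) (map_one φ)]
          _ ≤ (B.map φ).rank := Matrix.rank_mul_le_right _ _
      rw [finrank_fin_fun, ← Matrix.rank]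
      rw [ct, Matrix.rank_transpose, h1]
    have hXdim : finrank K X = k := by
      have h1 := Submodule.finrank_add_eq_of_isCompl hX
      have h2 := LinearMap.finrank_range_add_finrank_ker (ct φ B).mulVecLin
      rw [LinearMap.range_eq_top.2 hsurj, finrank_top, finrank_fin_fun] at h2
      rw [finrank_fin_fun] at h1 h2
      omega
    obtain ⟨C, hC1, hC2, hCinj⟩ := exists_cols X
    obtain ⟨c, hCc⟩ := exists_restrict A X (fun v hv => by simpa [Matrix.toLin'_apply] using hXinv hv) C hC1 hC2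
    let e : Fin k ≃ Fin (finrank K X) := finCongr hXdim.symm
    set C' : Matrix (Fin n) (Fin k) K := C.submatrix id e with hC'
    set a2 : Matrix (Fin k) (Fin k) K := c.submatrix e e with ha2
    have hC'a : A * C' = C' * a2 := by
      rw [hC', ha2, Matrix.submatrix_mul_equiv, ← hCc]
      rfl
    have hC'x : ∀ x : Fin k → K, C' *ᵥ x = C *ᵥ (x ∘ e.symm) := fun x => by
      rw [hC', Matrix.submatrix_mulVec_equiv, Function.comp_id]
    obtain ⟨P, hP⟩ : ∃ P, P = ct φ B * C' := ⟨_, rfl⟩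
    have hPu : IsUnit P.det := by
      refine (Matrix.isUnit_iff_isUnit_det P).1 (Matrix.mulVec_injective_iff_isUnit.1 fun x x' h => ?_)
      have h0 : C' *ᵥ (x - x') = 0 := by
        have h1 : C' *ᵥ (x - x') ∈ LinearMap.ker (ct φ B).mulVecLin := by
          rw [LinearMap.mem_ker, Matrix.mulVecLin_apply, Matrix.mulVec_mulVec, ← hP, Matrix.mulVec_sub]
          exact sub_eq_zero.2 h
        have h2 : C' *ᵥ (x - x') ∈ X := by rw [hC'x]; exact hC1 _
        exact (Submodule.disjoint_def.1 hX.disjoint) _ h1 h2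
      rw [hC'x] at h0
      have h3 := hCinj (h0.trans (Matrix.mulVec_zero C).symm)
      exact sub_eq_zero.1 (funext fun i => by simpa using congr_fun h3 (e i))
    have hPa : ct φ a * P * a2 = P := by
      conv_rhs => rw [hP, hcBA, Matrix.mul_assoc, hC'a]
      rw [hP]
      simp only [Matrix.mul_assoc]
    obtain ⟨E, hE⟩ : ∃ E, E = ct φ C' * C' := ⟨_, rfl⟩
    have hEs : ct φ E = E := by rw [hE]; exact hermitian_gram φ hφ C'
    have hEa : ct φ a2 * E * a2 = E := by
      calc ct φ a2 * E * a2 = ct φ (C' * a2) * (C' * a2) := by rw [ct_mul, hE]; simp only [Matrix.mul_assoc]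
        _ = ct φ (A * C') * (A * C') := by rw [hC'a]
        _ = ct φ C' * (ct φ A * A) * C' := by rw [ct_mul]; simp only [Matrix.mul_assoc]
        _ = E := by rw [hgU, Matrix.mul_one, ← hE]
    have hcP : IsUnit (ct φ P).det := by rw [det_ct]; exact hPu.map φ
    obtain ⟨w, hw'⟩ := hw
    have hwd : w - φ w ≠ 0 := sub_ne_zero.2 (Ne.symm hw')
    set s := w / (w - φ w) with hs
    have hs1 : s + φ s = 1 := by
      rw [hs, map_div₀, map_sub, hφ, ← neg_sub w (φ w), div_neg, ← sub_eq_add_neg, ← sub_div, div_self hwd]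
    obtain ⟨t, ht⟩ : ∃ t, t = (-s) • ((ct φ P)⁻¹ * E) := ⟨_, rfl⟩
    have hta : a * t = t * a2 := by
      have h1 : ct φ a2 * ct φ P * a = ct φ P := by
        have := congrArg (ct φ) hPa
        rw [ct_mul, ct_mul, ct_ct φ hφ, ← Matrix.mul_assoc] at this
        exact this
      have hca2 : IsUnit (ct φ a2).det := by
        have h3 := congrArg Matrix.det h1
        rw [Matrix.det_mul, Matrix.det_mul] at h3
        exact isUnit_of_mul_isUnit_left (isUnit_of_mul_isUnit_left (h3 ▸ hcP))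
      have h2 : ct φ a2 * ct φ P * ((a * ((ct φ P)⁻¹ * E))) = ct φ a2 * ct φ P * ((ct φ P)⁻¹ * E * a2) := by
        rw [← Matrix.mul_assoc (ct φ a2 * ct φ P), h1, Matrix.mul_assoc ((ct φ P)⁻¹),
          ← Matrix.mul_assoc (ct φ P), Matrix.mul_nonsing_inv _ hcP, Matrix.one_mul, Matrix.mul_assoc (ct φ a2),
          ← Matrix.mul_assoc (ct φ P), Matrix.mul_nonsing_inv _ hcP, Matrix.one_mul, ← Matrix.mul_assoc, hEa]
      have hu : IsUnit (ct φ a2 * ct φ P) := (Matrix.isUnit_iff_isUnit_det _).2 (by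
        rw [Matrix.det_mul]; exact hca2.mul hcP)
      have h4 := hu.mul_left_cancel h2
      rw [ht, Matrix.mul_smul, Matrix.smul_mul, h4]
    obtain ⟨D, hD⟩ : ∃ D, D = C' + B * t := ⟨_, rfl⟩
    have hDa : A * D = D * a2 := by
      rw [hD, Matrix.mul_add, Matrix.add_mul, hC'a, ← Matrix.mul_assoc, hBa, Matrix.mul_assoc, hta, Matrix.mul_assoc]
    have hBD : ct φ B * D = P := by
      rw [hD, Matrix.mul_add, ← Matrix.mul_assoc, ← hGdef, hG0, Matrix.zero_mul, add_zero, ← hP]
    have hDB : ct φ D * B = ct φ P := by rw [← hBD, ct_mul, ct_ct φ hφ]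
    have hDD : ct φ D * D = 0 := by
      have h1 : ct φ P * t = (-s) • E := by
        rw [ht, Matrix.mul_smul, ← Matrix.mul_assoc, Matrix.mul_nonsing_inv _ hcP, Matrix.one_mul]
      have h2 : ct φ t * P = (-φ s) • E := by
        have := congrArg (ct φ) h1
        rw [ct_mul, ct_ct φ hφ, ct_smul, hEs, map_neg] at this
        exact this
      calc ct φ D * D = E + ct φ P * t + ct φ t * P + ct φ t * G * t := by
            rw [hD, ct_add, Matrix.add_mul, Matrix.mul_add, Matrix.mul_add, ct_mul, hE, hGdef, hP, ct_mul, ct_ct φ hφ]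
            simp only [Matrix.mul_assoc]
            abel
        _ = 0 := by
            rw [hG0, Matrix.mul_zero, Matrix.zero_mul, add_zero, h1, h2]
            calc E + -s • E + -φ s • E = (1 - (s + φ s)) • E := by module
              _ = 0 := by rw [hs1, sub_self, zero_smul]
    obtain ⟨y2, hy2⟩ : ∃ y2, y2 = P⁻¹ * (ct φ (y : Matrix (Fin k) (Fin k) K))⁻¹ * P := ⟨_, rfl⟩
    have hy2a : y2 * a2 = a2 * y2 := by
      have e1 : ct φ a * ct φ (y : Matrix (Fin k) (Fin k) K) = ct φ (y : Matrix (Fin k) (Fin k) K) * ct φ a := by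
        rw [← ct_mul, ← ct_mul, hya]
      have hca_inv : (ct φ a)⁻¹ * P = P * a2 := by
        calc (ct φ a)⁻¹ * P = (ct φ a)⁻¹ * (ct φ a * P * a2) := by rw [hPa]
          _ = P * a2 := by rw [← Matrix.mul_assoc, ← Matrix.mul_assoc, Matrix.nonsing_inv_mul _ hca, Matrix.one_mul]
      have ha2P : a2 = P⁻¹ * ((ct φ a)⁻¹ * P) := by
        rw [hca_inv, ← Matrix.mul_assoc, Matrix.nonsing_inv_mul _ hPu, Matrix.one_mul]
      have e2 : (ct φ (y : Matrix (Fin k) (Fin k) K))⁻¹ * (ct φ a)⁻¹ = (ct φ a)⁻¹ * (ct φ (y : Matrix (Fin k) (Fin k) K))⁻¹ := by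
        rw [← Matrix.mul_inv_rev, ← Matrix.mul_inv_rev, e1]
      rw [hy2]
      calc P⁻¹ * (ct φ (y : Matrix (Fin k) (Fin k) K))⁻¹ * P * a2
          = P⁻¹ * ((ct φ (y : Matrix (Fin k) (Fin k) K))⁻¹ * (ct φ a)⁻¹) * P := by
            rw [Matrix.mul_assoc _ P a2, ← hca_inv]
            simp only [Matrix.mul_assoc]
        _ = P⁻¹ * (ct φ a)⁻¹ * (P * P⁻¹) * (ct φ (y : Matrix (Fin k) (Fin k) K))⁻¹ * P := by
            rw [e2, Matrix.mul_nonsing_inv _ hPu, Matrix.mul_one]
            simp only [Matrix.mul_assoc]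
        _ = _ := by rw [ha2P]; simp only [Matrix.mul_assoc]
    set BD : Matrix (Fin n) (Fin k ⊕ Fin k) K := Matrix.fromCols B D with hBDdef
    have hgram : ct φ BD * BD = Matrix.fromBlocks 0 P (ct φ P) 0 := by
      rw [hBDdef]
      have : ct φ (Matrix.fromCols B D) = Matrix.fromRows (ct φ B) (ct φ D) := by
        ext (i | i) j <;> simp [ct]
      rw [this, Matrix.fromRows_mul_fromCols, hBD, hDB, hDD, ← hGdef, hG0]
    have hgu : IsUnit (Matrix.fromBlocks 0 P (ct φ P) 0).det := by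
      refine IsUnit.of_mul_eq_one (Matrix.fromBlocks 0 (ct φ P)⁻¹ P⁻¹ 0).det ?_
      rw [← Matrix.det_mul, Matrix.fromBlocks_multiply]
      simp [Matrix.mul_nonsing_inv _ hPu, Matrix.mul_nonsing_inv _ hcP]
    have hy2P : ct φ (y : Matrix (Fin k) (Fin k) K) * P * y2 = P := by
      rw [hy2]
      calc _ = ct φ (y : Matrix (Fin k) (Fin k) K) * (P * P⁻¹) * (ct φ (y : Matrix (Fin k) (Fin k) K))⁻¹ * P := by
            simp only [Matrix.mul_assoc]
        _ = P := by rw [Matrix.mul_nonsing_inv _ hPu, Matrix.mul_one, Matrix.mul_nonsing_inv _ hcy, Matrix.one_mul]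
    obtain ⟨u, hu1, hu2, hu3⟩ := exists_extend φ hφ A hgU BD (Matrix.fromBlocks a 0 0 a2) (by
        rw [hBDdef, Matrix.mul_fromCols, Matrix.fromCols_mul_fromBlocks, hBa, hDa]
        simp)
      (by rw [hgram]; exact hgu) (Matrix.fromBlocks (y : Matrix (Fin k) (Fin k) K) 0 0 y2) (by
        simp [Matrix.fromBlocks_multiply, hya, hy2a]) (by
        rw [hgram]
        have : ct φ (Matrix.fromBlocks (y : Matrix (Fin k) (Fin k) K) 0 0 y2) =
            Matrix.fromBlocks (ct φ (y : Matrix (Fin k) (Fin k) K)) 0 0 (ct φ y2) := by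
          ext (i | i) (j | j) <;> simp [ct]
        rw [this, Matrix.fromBlocks_multiply, Matrix.fromBlocks_multiply]
        have h2 : ct φ y2 * ct φ P * (y : Matrix (Fin k) (Fin k) K) = ct φ P := by
          have := congrArg (ct φ) hy2P
          rw [ct_mul, ct_mul, ct_ct φ hφ, ← Matrix.mul_assoc] at this
          exact this
        simp [hy2P, h2])
    refine ⟨u, hu1, hu2, ?_⟩
    rw [hu3, Matrix.det_fromBlocks_zero₂₁, hy2, Matrix.det_mul, Matrix.det_mul, Matrix.det_nonsing_inv,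
      Matrix.det_nonsing_inv, Ring.inverse_eq_inv, Ring.inverse_eq_inv, det_ct, hydet, hdd]
    have := hPu.ne_zero
    field_simp

end CfsgLib.Semisimple.Unitary
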