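import Cfsg.Agent.Lib.Semisimple.Endo

/-!
Semisimple elements (order prime to the characteristic) of `GL_n` over a finite field.
-/

namespace CfsgLib.Semisimple

open Polynomial Module

variable {F : Type*} [Field F] [Fintype F] {ι : Type*} [Fintype ι] [DecidableEq ι]

omit [Fintype F] in
theorem cast_orderOf_ne_zero {G : Type*} [Monoid G] (p : ℕ) [Fact p.Prime] [CharP F p] (g : G)
    (hg : (orderOf g).Coprime p) : (orderOf g : F) ≠ 0 := by
  rw [Ne, CharP.cast_eq_zero_iff F p]
  intro h
  exact (Fact.out : p.Prime).ne_one (Nat.eq_one_of_dvd_coprimes hg h dvd_rfl)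

omit [Fintype F] in
theorem toLin_pow_eq_one (g : GL ι F) {k : ℕ} (hk : g ^ k = 1) :
    (Matrix.toLin' (g : Matrix ι ι F)) ^ k = 1 := by
  rw [← Matrix.toLin'_pow, ← Units.val_pow_eq_pow_val, hk, Units.val_one, Matrix.toLin'_one]
  rfl

omit [Fintype F] in
/-- Semisimple elements with the same characteristic polynomial are conjugate. -/
theorem isConj_of_charpoly_eq (p : ℕ) [Fact p.Prime] [CharP F p] (g h : GL ι F)
    (hg : (orderOf g).Coprime p) (hh : (orderOf h).Coprime p)
    (hc : (g : Matrix ι ι F).charpoly = (h : Matrix ι ι F).charpoly) : IsConj g h := by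
  obtain ⟨e, he⟩ := exists_similar (k := orderOf g * orderOf h)
    (by push_cast; exact mul_ne_zero (cast_orderOf_ne_zero p g hg) (cast_orderOf_ne_zero p h hh))
    _ (Matrix.toLin' (g : Matrix ι ι F)) (Matrix.toLin' (h : Matrix ι ι F)) rfl
    (toLin_pow_eq_one g (by rw [pow_mul, pow_orderOf_eq_one, one_pow]))
    (toLin_pow_eq_one h (by rw [mul_comm, pow_mul, pow_orderOf_eq_one, one_pow]))
    (by rw [Matrix.charpoly_toLin', Matrix.charpoly_toLin', hc])
  let A : Matrix ι ι F := LinearMap.toMatrix' (e : (ι → F) →ₗ[F] (ι → F))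
  have hdet : A.det ≠ 0 := by
    rw [LinearMap.det_toMatrix']
    exact e.isUnit_det'.ne_zero
  refine isConj_iff.2 ⟨Matrix.GeneralLinearGroup.mkOfDetNeZero A hdet, ?_⟩
  rw [mul_inv_eq_iff_eq_mul]
  apply Units.ext
  apply Matrix.toLin'.injective
  refine LinearMap.ext fun x => ?_
  show Matrix.toLin' (A * (g : Matrix ι ι F)) x = Matrix.toLin' ((h : Matrix ι ι F) * A) x
  simp only [Matrix.toLin'_mul, LinearMap.comp_apply, A, Matrix.toLin'_toMatrix',
    LinearEquiv.coe_coe]
  exact he x

/-- Every non-zero scalar is the determinant of an element commuting with a semisimple one. -/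
theorem exists_commute_det_eq (p : ℕ) [Fact p.Prime] [CharP F p] [Nonempty ι] (g : GL ι F)
    (hg : (orderOf g).Coprime p) (δ : F) (hδ : δ ≠ 0) :
    ∃ a : GL ι F, (a : Matrix ι ι F).det = δ ∧ Commute a g := by
  obtain ⟨e, hdet, he⟩ := exists_commute_det (Matrix.toLin' (g : Matrix ι ι F))
    (isSemisimple_of_pow_eq_one _ (cast_orderOf_ne_zero p g hg)
      (toLin_pow_eq_one g (pow_orderOf_eq_one g))) δ hδ
  let A : Matrix ι ι F := LinearMap.toMatrix' (e : (ι → F) →ₗ[F] (ι → F))
  have hA : A.det = δ := by rw [LinearMap.det_toMatrix', hdet]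
  refine ⟨Matrix.GeneralLinearGroup.mkOfDetNeZero A (hA ▸ hδ), hA, ?_⟩
  apply Units.ext
  apply Matrix.toLin'.injective
  refine LinearMap.ext fun x => ?_
  show Matrix.toLin' (A * (g : Matrix ι ι F)) x = Matrix.toLin' ((g : Matrix ι ι F) * A) x
  simp only [Matrix.toLin'_mul, LinearMap.comp_apply, A, Matrix.toLin'_toMatrix',
    LinearEquiv.coe_coe]
  exact he x

/-- A monic polynomial not vanishing at `0` is the characteristic polynomial of a semisimple element. -/
theorem exists_charpoly (P : F[X]) (hP : P.Monic) (h0 : P.eval 0 ≠ 0) :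
    ∀ {n : ℕ}, P.natDegree = n →
      ∃ (M : Matrix (Fin n) (Fin n) F) (k : ℕ), (k : F) ≠ 0 ∧ M ^ k = 1 ∧ M.charpoly = P := by
  induction hd : P.natDegree using Nat.strong_induction_on generalizing P with
  | _ d ih =>
    intro n hn
    subst hn
    rcases Nat.eq_zero_or_pos d with rfl | hpos
    · exact ⟨1, 1, by simp, one_pow _, by
        rw [(hP.natDegree_eq_zero).1 hd]; simp [Matrix.charpoly]⟩
    obtain ⟨f, hmon, hf, Q, rfl⟩ := P.exists_monic_irreducible_factor (fun hu => by
      have := natDegree_eq_zero_of_isUnit hu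
      omega)
    have hQ : Q.Monic := hmon.of_mul_monic_left hP
    rw [eval_mul] at h0
    have hdeg : f.natDegree + Q.natDegree = d := by rw [← hd, hmon.natDegree_mul hQ]
    have hfpos : 0 < f.natDegree := hf.natDegree_pos
    obtain ⟨M, k, hk, hM, hMc⟩ :=
      ih Q.natDegree (by omega) Q hQ (right_ne_zero_of_mul h0) rfl rfl
    have := Fact.mk hf
    let pb := AdjoinRoot.powerBasis hf.ne_zero
    have : FiniteDimensional F (AdjoinRoot f) := pb.finite
    have : Finite (AdjoinRoot f) := Module.finite_of_finite F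
    have : Fintype (AdjoinRoot f) := Fintype.ofFinite _
    have hroot : AdjoinRoot.root f ≠ 0 := by
      intro h
      rw [← AdjoinRoot.mk_X, AdjoinRoot.mk_eq_zero] at h
      obtain ⟨r, hr⟩ := h
      have h1 := congrArg (eval 0) hr
      rw [eval_X, eval_mul, eq_comm, mul_eq_zero] at h1
      refine h1.elim (left_ne_zero_of_mul h0) fun hr0 => ?_
      have h2 : f.natDegree + r.natDegree = 1 := by
        rw [← natDegree_mul hf.ne_zero (fun h => by simp [h] at hr), ← hr, natDegree_X]
      rw [eq_C_of_natDegree_eq_zero (by omega : r.natDegree = 0), eval_C] at hr0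
      have h3 : r = 0 := by
        rw [eq_C_of_natDegree_eq_zero (by omega : r.natDegree = 0), hr0, C_0]
      simp [h3] at hr
    let N := Algebra.leftMulMatrix pb.basis (AdjoinRoot.root f)
    let k₁ := Fintype.card (AdjoinRoot f) - 1
    have hN : N ^ k₁ = 1 := by
      rw [← map_pow, FiniteField.pow_card_sub_one_eq_one _ hroot, map_one]
    have hk₁ : (k₁ : F) ≠ 0 := by
      rw [Nat.cast_sub Fintype.card_pos, Module.card_eq_pow_finrank (K := F), Nat.cast_pow,
        FiniteField.cast_card_eq_zero, zero_pow finrank_pos.ne']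
      simp
    have hNc : N.charpoly = f := by
      have h := charpoly_leftMulMatrix pb
      rw [AdjoinRoot.powerBasis_gen, AdjoinRoot.minpoly_root hf.ne_zero, hmon.leadingCoeff, inv_one,
        C_1, mul_one] at h
      exact h
    let e : (Fin pb.dim ⊕ Fin Q.natDegree) ≃ Fin d :=
      Fintype.equivFinOfCardEq (by simp [pb, hdeg])
    refine ⟨(Matrix.fromBlocks N 0 0 M).submatrix e.symm e.symm, k₁ * k, by
      push_cast; exact mul_ne_zero hk₁ hk, ?_, ?_⟩
    · have hblock : ∀ j : ℕ, (Matrix.fromBlocks N 0 0 M) ^ j = Matrix.fromBlocks (N ^ j) 0 0 (M ^ j) := by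
        intro j
        induction j with
        | zero => simp
        | succ j ihj => simp [pow_succ, ihj, Matrix.fromBlocks_multiply]
      rw [show (Matrix.fromBlocks N 0 0 M).submatrix e.symm e.symm =
        Matrix.reindexAlgEquiv F F e (Matrix.fromBlocks N 0 0 M) from rfl, ← map_pow, hblock,
        pow_mul, hN, one_pow, mul_comm, pow_mul, hM, one_pow, Matrix.fromBlocks_one, map_one]
    · rw [show (Matrix.fromBlocks N 0 0 M).submatrix e.symm e.symm =
        Matrix.reindex e e (Matrix.fromBlocks N 0 0 M) from rfl, Matrix.charpoly_reindex,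
        Matrix.charpoly_fromBlocks_zero₁₂, hNc, hMc]

/-- Units form of `exists_charpoly`. -/
theorem exists_GL_charpoly (p : ℕ) [Fact p.Prime] [CharP F p] (P : F[X]) (hP : P.Monic)
    (h0 : P.eval 0 ≠ 0) {n : ℕ} (hn : P.natDegree = n) :
    ∃ g : GL (Fin n) F, (orderOf g).Coprime p ∧ (g : Matrix (Fin n) (Fin n) F).charpoly = P := by
  obtain ⟨M, k, hk, hM, hMc⟩ := exists_charpoly P hP h0 hn
  have hk0 : k ≠ 0 := fun h => by simp [h] at hk
  obtain ⟨g, hg⟩ := IsUnit.of_pow_eq_one hM hk0
  refine ⟨g, ?_, by rw [hg, hMc]⟩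
  have hd : orderOf g ∣ k := orderOf_dvd_of_pow_eq_one (Units.ext (by simp [hg, hM]))
  refine Nat.Coprime.coprime_dvd_left hd ?_
  rw [Nat.coprime_comm, (Fact.out : p.Prime).coprime_iff_not_dvd, ← CharP.cast_eq_zero_iff F p]
  exact hk

end CfsgLib.Semisimple
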