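import Cfsg.Agent.Lib.Semisimple.GL

/-!
Counting semisimple classes of `GL_n` and `SL_n` by characteristic polynomials.
-/

namespace CfsgLib.Semisimple

open Polynomial Matrix
open scoped MatrixGroups

variable {F : Type*} [Field F] [Fintype F] (p : ℕ) [Fact p.Prime] [CharP F p] {n : ℕ}

omit [Fintype F] in
theorem charpoly_conj_GL (a g : GL (Fin n) F) :
    ((a * g * a⁻¹ : GL (Fin n) F) : Matrix (Fin n) (Fin n) F).charpoly =
      (g : Matrix (Fin n) (Fin n) F).charpoly := by
  rw [Units.val_mul, Units.val_mul, Matrix.coe_units_inv]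
  exact Matrix.charpoly_units_conj a _

omit [Fintype F] in
theorem eval_zero_charpoly (g : GL (Fin n) F) :
    (g : Matrix (Fin n) (Fin n) F).det =
      (-1) ^ n * (g : Matrix (Fin n) (Fin n) F).charpoly.eval 0 := by
  rw [Matrix.det_eq_sign_charpoly_coeff, Fintype.card_fin, coeff_zero_eq_eval_zero]

/-- Semisimple elements of `SL_n` with the same characteristic polynomial are conjugate in `SL_n`. -/
theorem sl_isConj_of_charpoly_eq (g h : SL(n, F)) (hg : (orderOf g).Coprime p)
    (hh : (orderOf h).Coprime p)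
    (hc : (g : Matrix (Fin n) (Fin n) F).charpoly = (h : Matrix (Fin n) (Fin n) F).charpoly) :
    IsConj g h := by
  rcases Nat.eq_zero_or_pos n with rfl | hn
  · rw [show g = h from Subtype.ext (Subsingleton.elim _ _)]
  have : Nonempty (Fin n) := ⟨⟨0, hn⟩⟩
  have hinj := Matrix.SpecialLinearGroup.toGL_injective (n := Fin n) (R := F)
  have hg' : (orderOf (Matrix.SpecialLinearGroup.toGL g)).Coprime p := by
    rwa [orderOf_injective _ hinj]
  have hh' : (orderOf (Matrix.SpecialLinearGroup.toGL h)).Coprime p := by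
    rwa [orderOf_injective _ hinj]
  obtain ⟨A, hA⟩ := isConj_iff.1
    (isConj_of_charpoly_eq p (Matrix.SpecialLinearGroup.toGL g) (Matrix.SpecialLinearGroup.toGL h) hg' hh' hc)
  have hd : (A : Matrix (Fin n) (Fin n) F).det ≠ 0 := (isUnit_det_of_invertible _).ne_zero
  obtain ⟨a, ha, hcomm⟩ := exists_commute_det_eq p (Matrix.SpecialLinearGroup.toGL g) hg'
    (A : Matrix (Fin n) (Fin n) F).det⁻¹ (inv_ne_zero hd)
  obtain ⟨S, hS⟩ : ∃ S : SL(n, F), Matrix.SpecialLinearGroup.toGL S = A * a :=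
    ⟨⟨((A * a : GL (Fin n) F) : Matrix (Fin n) (Fin n) F), by
      rw [Units.val_mul, det_mul, ha, mul_inv_cancel₀ hd]⟩, Units.ext rfl⟩
  refine isConj_iff.2 ⟨S, hinj ?_⟩
  rw [map_mul, map_mul, map_inv, hS, ← hA]
  calc A * a * Matrix.SpecialLinearGroup.toGL g * (A * a)⁻¹
      = A * (a * Matrix.SpecialLinearGroup.toGL g * a⁻¹) * A⁻¹ := by group
    _ = A * Matrix.SpecialLinearGroup.toGL g * A⁻¹ := by rw [hcomm.eq, mul_inv_cancel_right]

/-- Monic polynomials of degree `n` from coefficient tuples. -/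
noncomputable def polyOfTuple (v : Fin n → F) : F[X] := X ^ n + ∑ i : Fin n, C (v i) * X ^ (i : ℕ)

omit [Fintype F] in
theorem polyOfTuple_spec (v : Fin n → F) :
    (polyOfTuple v).Monic ∧ (polyOfTuple v).natDegree = n ∧
      ∀ i : Fin n, (polyOfTuple v).coeff i = v i := by
  have hlt : (∑ i : Fin n, C (v i) * X ^ (i : ℕ)).degree < (n : WithBot ℕ) :=
    degree_sum_fin_lt v
  refine ⟨monic_X_pow_add hlt, ?_, fun i => ?_⟩
  · apply natDegree_eq_of_degree_eq_some
    rw [polyOfTuple, degree_add_eq_left_of_degree_lt (by rwa [degree_X_pow]), degree_X_pow]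
  · simp [polyOfTuple, coeff_X_pow, i.2.ne, coeff_C_mul, Fin.val_inj]

omit [Fintype F] in
theorem eq_of_coeff_eq {P Q : F[X]} (hP : P.Monic) (hQ : Q.Monic) (hPn : P.natDegree = n)
    (hQn : Q.natDegree = n) (h : ∀ i : Fin n, P.coeff i = Q.coeff i) : P = Q := by
  ext i
  rcases lt_trichotomy i n with hi | rfl | hi
  · exact h ⟨i, hi⟩
  · conv_lhs => rw [← hPn, hP.coeff_natDegree]
    rw [← hQn, hQ.coeff_natDegree]
  · rw [coeff_eq_zero_of_natDegree_lt (hPn ▸ hi), coeff_eq_zero_of_natDegree_lt (hQn ▸ hi)]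

theorem card_classes_gl (hn : 1 ≤ n) :
    Nat.card {c : ConjClasses (GL (Fin n) F) //
      ∃ g : GL (Fin n) F, ConjClasses.mk g = c ∧ (orderOf g).Coprime p} =
      (Fintype.card F - 1) * Fintype.card F ^ (n - 1) := by
  classical
  let T := {v : Fin n → F // v ⟨0, hn⟩ ≠ 0}
  let Φ : {c : ConjClasses (GL (Fin n) F) //
      ∃ g : GL (Fin n) F, ConjClasses.mk g = c ∧ (orderOf g).Coprime p} → T := fun c =>
    ⟨fun i => (c.2.choose : Matrix (Fin n) (Fin n) F).charpoly.coeff i, by
      simp only [coeff_zero_eq_eval_zero]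
      intro h
      have h1 := eval_zero_charpoly c.2.choose
      rw [h, mul_zero] at h1
      exact (isUnit_det_of_invertible _).ne_zero h1⟩
  have hbij : Function.Bijective Φ := by
    constructor
    · intro c d h
      have h' := congrArg Subtype.val h
      refine Subtype.ext ?_
      rw [← c.2.choose_spec.1, ← d.2.choose_spec.1, ConjClasses.mk_eq_mk_iff_isConj]
      refine isConj_of_charpoly_eq p _ _ c.2.choose_spec.2 d.2.choose_spec.2
        (eq_of_coeff_eq (charpoly_monic _) (charpoly_monic _) ?_ ?_ fun i => congrFun h' i)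
      · rw [charpoly_natDegree_eq_dim, Fintype.card_fin]
      · rw [charpoly_natDegree_eq_dim, Fintype.card_fin]
    · intro v
      obtain ⟨hmon, hdeg, hco⟩ := polyOfTuple_spec v.1
      obtain ⟨g, hg, hgc⟩ := exists_GL_charpoly p (polyOfTuple v.1) hmon
        (by rw [← coeff_zero_eq_eval_zero]; exact (hco ⟨0, hn⟩).symm ▸ v.2) hdeg
      refine ⟨⟨ConjClasses.mk g, g, rfl, hg⟩, Subtype.ext (funext fun i => ?_)⟩
      have hspec := (⟨ConjClasses.mk g, g, rfl, hg⟩ : {c : ConjClasses (GL (Fin n) F) //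
        ∃ g : GL (Fin n) F, ConjClasses.mk g = c ∧ (orderOf g).Coprime p}).2.choose_spec.1
      rw [ConjClasses.mk_eq_mk_iff_isConj, isConj_iff] at hspec
      obtain ⟨a, ha⟩ := hspec
      simp only [Φ]
      rw [← hco i, ← hgc]
      conv_rhs => rw [← ha, charpoly_conj_GL]
  rw [Nat.card_eq_of_bijective Φ hbij]
  obtain ⟨m, rfl⟩ : ∃ m, n = m + 1 := ⟨n - 1, by omega⟩
  let e : T ≃ {x : F // x ≠ 0} × (Fin m → F) :=
    { toFun := fun v => (⟨v.1 0, v.2⟩, fun i => v.1 i.succ)
      invFun := fun x => ⟨Fin.cons x.1.1 x.2, x.1.2⟩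
      left_inv := fun v => Subtype.ext (Fin.cons_self_tail v.1)
      right_inv := fun x => by simp }
  rw [Nat.card_congr e, Nat.card_prod, Nat.card_eq_fintype_card, Nat.card_eq_fintype_card,
    Fintype.card_subtype_compl, Fintype.card_fun, Fintype.card_subtype_eq, Fintype.card_fin]
  simp

theorem card_classes_sl (hn : 1 ≤ n) :
    Nat.card {c : ConjClasses SL(n, F) //
      ∃ g : SL(n, F), ConjClasses.mk g = c ∧ (orderOf g).Coprime p} =
      Fintype.card F ^ (n - 1) := by
  classical
  let T := {v : Fin n → F // v ⟨0, hn⟩ = (-1) ^ n}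
  have : Nonempty (Fin n) := ⟨⟨0, hn⟩⟩
  have hinj := Matrix.SpecialLinearGroup.toGL_injective (n := Fin n) (R := F)
  let Φ : {c : ConjClasses SL(n, F) //
      ∃ g : SL(n, F), ConjClasses.mk g = c ∧ (orderOf g).Coprime p} → T := fun c =>
    ⟨fun i => (c.2.choose : Matrix (Fin n) (Fin n) F).charpoly.coeff i, by
      have h1 := eval_zero_charpoly (Matrix.SpecialLinearGroup.toGL c.2.choose)
      rw [show ((Matrix.SpecialLinearGroup.toGL c.2.choose : GL (Fin n) F) : Matrix (Fin n) (Fin n) F) =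
        (c.2.choose : Matrix (Fin n) (Fin n) F) from rfl, Matrix.SpecialLinearGroup.det_coe] at h1
      simp only [coeff_zero_eq_eval_zero]
      calc eval 0 (c.2.choose : Matrix (Fin n) (Fin n) F).charpoly
          = (-1) ^ n * ((-1) ^ n * eval 0 (c.2.choose : Matrix (Fin n) (Fin n) F).charpoly) := by
            rw [← mul_assoc, ← mul_pow]; simp
        _ = _ := by rw [← h1, mul_one]⟩
  have hbij : Function.Bijective Φ := by
    constructor
    · intro c d h
      have h' := congrArg Subtype.val h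
      refine Subtype.ext ?_
      rw [← c.2.choose_spec.1, ← d.2.choose_spec.1, ConjClasses.mk_eq_mk_iff_isConj]
      refine sl_isConj_of_charpoly_eq p _ _ c.2.choose_spec.2 d.2.choose_spec.2
        (eq_of_coeff_eq (charpoly_monic _) (charpoly_monic _) ?_ ?_ fun i => congrFun h' i)
      · rw [charpoly_natDegree_eq_dim, Fintype.card_fin]
      · rw [charpoly_natDegree_eq_dim, Fintype.card_fin]
    · intro v
      obtain ⟨hmon, hdeg, hco⟩ := polyOfTuple_spec v.1
      have h0 : (polyOfTuple v.1).eval 0 = (-1) ^ n := by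
        rw [← coeff_zero_eq_eval_zero]
        exact (hco ⟨0, hn⟩).trans v.2
      obtain ⟨g, hg, hgc⟩ := exists_GL_charpoly p (polyOfTuple v.1) hmon
        (by rw [h0]; simp) hdeg
      have hdet : (g : Matrix (Fin n) (Fin n) F).det = 1 := by
        rw [eval_zero_charpoly, hgc, h0, ← mul_pow]
        simp
      let s : SL(n, F) := ⟨g, hdet⟩
      have hs : Matrix.SpecialLinearGroup.toGL s = g := Units.ext rfl
      have hs' : (orderOf s).Coprime p := by rw [← orderOf_injective _ hinj, hs]; exact hg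
      refine ⟨⟨ConjClasses.mk s, s, rfl, hs'⟩, Subtype.ext (funext fun i => ?_)⟩
      have hspec := (⟨ConjClasses.mk s, s, rfl, hs'⟩ : {c : ConjClasses SL(n, F) //
        ∃ g : SL(n, F), ConjClasses.mk g = c ∧ (orderOf g).Coprime p}).2.choose_spec.1
      rw [ConjClasses.mk_eq_mk_iff_isConj, isConj_iff] at hspec
      obtain ⟨a, ha⟩ := hspec
      simp only [Φ]
      rw [← hco i, ← hgc]
      have ha' := congrArg Matrix.SpecialLinearGroup.toGL ha
      rw [map_mul, map_mul, map_inv, hs] at ha'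
      conv_rhs => rw [← ha', charpoly_conj_GL]
      rfl
  rw [Nat.card_eq_of_bijective Φ hbij]
  obtain ⟨m, rfl⟩ : ∃ m, n = m + 1 := ⟨n - 1, by omega⟩
  let e : T ≃ (Fin m → F) :=
    { toFun := fun v i => v.1 i.succ
      invFun := fun x => ⟨Fin.cons ((-1) ^ (m + 1)) x, rfl⟩
      left_inv := fun v => Subtype.ext (funext fun j => Fin.cases v.2.symm (fun i => rfl) j)
      right_inv := fun x => by simp }
  rw [Nat.card_congr e, Nat.card_eq_fintype_card, Fintype.card_fun, Fintype.card_fin]
  simp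

end CfsgLib.Semisimple
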