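import Mathlib

/-!
Endomorphisms of finite order prime to the characteristic over a finite field: two of them with the same
characteristic polynomial are similar, every scalar is the determinant of an automorphism commuting with one of them,
and every monic polynomial not vanishing at zero is the characteristic polynomial of one.
-/

namespace CfsgLib.Semisimple

open Polynomial Module

variable {F : Type*} [Field F]
variable {V : Type*} [AddCommGroup V] [Module F V] [FiniteDimensional F V]

theorem isSemisimple_of_pow_eq_one (g : End F V) {k : ℕ} (hk : (k : F) ≠ 0) (hg : g ^ k = 1) :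
    g.IsSemisimple := by
  refine End.isSemisimple_of_squarefree_aeval_eq_zero
    ((X_pow_sub_one_separable_iff.2 hk).squarefree) ?_
  simp [hg]

theorem isUnit_matrix_aeval {ι : Type*} [Fintype ι] [DecidableEq ι] (M : Matrix ι ι F) (f : F[X])
    (hf : Irreducible f) (hdvd : f ∣ M.charpoly) : ¬ IsUnit (aeval M f) := by
  have := Fact.mk hf
  intro hu
  let φ := algebraMap F (AdjoinRoot f)
  have hroot : (φ.mapMatrix M).charpoly.IsRoot (AdjoinRoot.root f) := by
    rw [RingHom.mapMatrix_apply, Matrix.charpoly_map]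
    exact (AdjoinRoot.isRoot_root f).dvd (Polynomial.map_dvd φ hdvd)
  rw [← Matrix.mem_spectrum_iff_isRoot_charpoly] at hroot
  have h0 := spectrum.subset_polynomial_aeval (φ.mapMatrix M) (f.map φ) ⟨_, hroot, rfl⟩
  simp only [eval_map, φ, AdjoinRoot.algebraMap_eq, AdjoinRoot.eval₂_root, spectrum.zero_mem_iff] at h0
  apply h0
  have h1 : φ.mapMatrix (aeval M f) = aeval (φ.mapMatrix M) (f.map φ) := by
    rw [Polynomial.aeval_map_algebraMap (AdjoinRoot f)]
    exact (aeval_algHom_apply (Algebra.ofId F (AdjoinRoot f)).mapMatrix M f).symm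
  simpa [φ, AdjoinRoot.algebraMap_eq] using h1 ▸ hu.map φ.mapMatrix

theorem exists_kernel_vector (g : End F V) (f : F[X]) (hf : Irreducible f)
    (hdvd : f ∣ g.charpoly) : ∃ v : V, v ≠ 0 ∧ aeval g f v = 0 := by
  let b := Module.Free.chooseBasis F V
  classical
  have hu := isUnit_matrix_aeval (LinearMap.toMatrix b b g) f hf (by rwa [LinearMap.charpoly_toMatrix])
  by_contra hne
  push Not at hne
  apply hu
  have hbij : Function.Injective (aeval g f) :=
    (injective_iff_map_eq_zero _).2 fun v hv => by_contra fun h => hne v h hv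
  have h2 : IsUnit (aeval g f) := by
    rw [LinearMap.isUnit_iff_ker_eq_bot, LinearMap.ker_eq_bot]
    exact hbij
  have h3 := h2.map (LinearMap.toMatrixAlgEquiv b)
  rwa [← aeval_algHom_apply] at h3

/-- The module of an irreducible polynomial embeds at a kernel vector. -/
theorem exists_cyclic (g : End F V) (f : F[X]) (hmon : f.Monic) (hf : Irreducible f)
    (hdvd : f ∣ g.charpoly) :
    ∃ ι : AdjoinRoot f →ₗ[F] V, Function.Injective ι ∧
      ∀ x, ι (AdjoinRoot.root f * x) = g (ι x) := by
  have := Fact.mk hf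
  obtain ⟨v, hv0, hv⟩ := exists_kernel_vector g f hf hdvd
  let ι : AdjoinRoot f →ₗ[F] V :=
    (LinearMap.applyₗ v).comp ((aeval g).toLinearMap.comp (AdjoinRoot.modByMonicHom hmon))
  have hι : ∀ p, ι (AdjoinRoot.mk f p) = aeval g p v := by
    intro p
    have h : aeval g p v = aeval g (p %ₘ f) v := by
      conv_lhs => rw [← modByMonic_add_div p f]
      rw [mul_comm f]
      simp [hv]
    simp only [ι, LinearMap.comp_apply, AdjoinRoot.modByMonicHom_mk, AlgHom.toLinearMap_apply,
      LinearMap.applyₗ_apply_apply]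
    exact h.symm
  refine ⟨ι, (injective_iff_map_eq_zero _).2 fun x hx => ?_, fun x => ?_⟩
  · obtain ⟨p, rfl⟩ := AdjoinRoot.mk_surjective x
    rw [hι] at hx
    rw [AdjoinRoot.mk_eq_zero]
    by_contra hnd
    obtain ⟨a, b, hab⟩ := (hf.coprime_iff_not_dvd.2 hnd)
    apply hv0
    have h1 := congrArg (fun q => aeval g q v) hab
    simpa [hv, hx] using h1.symm
  · obtain ⟨p, rfl⟩ := AdjoinRoot.mk_surjective x
    rw [← AdjoinRoot.mk_X, ← map_mul, hι, hι, map_mul, aeval_X, End.mul_apply]

/-- The invariant decomposition at an irreducible factor. -/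
theorem exists_decomposition (g : End F V) (hss : g.IsSemisimple) (f : F[X]) (hmon : f.Monic) (hf : Irreducible f)
    (hdvd : f ∣ g.charpoly) :
    ∃ (W : Submodule F V) (hW : ∀ x ∈ W, g x ∈ W) (e : (AdjoinRoot f × W) ≃ₗ[F] V),
      (∀ x : AdjoinRoot f × W, g (e x) = e (AdjoinRoot.root f * x.1, g.restrict hW x.2)) := by
  obtain ⟨ι, hinj, hι⟩ := exists_cyclic g f hmon hf hdvd
  have hU : LinearMap.range ι ∈ End.invtSubmodule g := by
    rw [End.mem_invtSubmodule]
    rintro _ ⟨x, rfl⟩
    exact ⟨_, hι x⟩
  obtain ⟨W, hW, hc⟩ := End.isSemisimple_iff.1 hss _ hU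
  have hW' : ∀ x ∈ W, g x ∈ W := fun x hx => (End.mem_invtSubmodule g).1 hW hx
  refine ⟨W, hW', ((LinearEquiv.ofInjective ι hinj).prodCongr (LinearEquiv.refl F W)).trans
    (Submodule.prodEquivOfIsCompl _ _ hc), fun x => ?_⟩
  simp [Submodule.coe_prodEquivOfIsCompl', hι, map_add]

theorem restrict_pow_eq_one {g : End F V} {W : Submodule F V} (hW : ∀ x ∈ W, g x ∈ W) {k : ℕ}
    (hg : g ^ k = 1) : (g.restrict hW) ^ k = 1 := by
  rw [End.pow_restrict k]
  ext x
  simp [hg]

theorem charpoly_decomposition {f : F[X]} [Fact (Irreducible f)] [FiniteDimensional F (AdjoinRoot f)]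
    {g : End F V} {W : Submodule F V} {hW : ∀ x ∈ W, g x ∈ W} (e : (AdjoinRoot f × W) ≃ₗ[F] V)
    (he : ∀ x : AdjoinRoot f × W, g (e x) = e (AdjoinRoot.root f * x.1, g.restrict hW x.2)) :
    g.charpoly = (LinearMap.mulLeft F (AdjoinRoot.root f)).charpoly * (g.restrict hW).charpoly := by
  rw [← LinearMap.charpoly_prodMap, ← LinearEquiv.charpoly_conj e]
  congr 1
  refine LinearMap.ext fun v => ?_
  obtain ⟨x, rfl⟩ := e.surjective v
  simp [LinearEquiv.conj_apply, he]

/-- Two semisimple endomorphisms with the same characteristic polynomial are similar. -/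
theorem exists_similar {k : ℕ} (hk : (k : F) ≠ 0) :
    ∀ (N : ℕ) {V₁ : Type*} [AddCommGroup V₁] [Module F V₁] [FiniteDimensional F V₁] {V₂ : Type*}
      [AddCommGroup V₂] [Module F V₂] [FiniteDimensional F V₂] (g : End F V₁) (h : End F V₂),
      finrank F V₁ = N → g ^ k = 1 → h ^ k = 1 → g.charpoly = h.charpoly →
      ∃ e : V₁ ≃ₗ[F] V₂, ∀ x, e (g x) = h (e x) := by
  intro N
  induction N using Nat.strong_induction_on with
  | _ N ih =>
    intro V₁ _ _ _ V₂ _ _ _ g h hN hg hh heq
    have hdim : finrank F V₂ = N := by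
      rw [← LinearMap.charpoly_natDegree h, ← heq, LinearMap.charpoly_natDegree, hN]
    rcases Nat.eq_zero_or_pos N with rfl | hpos
    · obtain ⟨e⟩ := FiniteDimensional.nonempty_linearEquiv_of_finrank_eq (hN.trans hdim.symm)
      have : Subsingleton V₂ := finrank_zero_iff.1 hdim
      exact ⟨e, fun x => Subsingleton.elim _ _⟩
    obtain ⟨f, hmon, hf, hdvd⟩ : ∃ f : F[X], f.Monic ∧ Irreducible f ∧ f ∣ g.charpoly :=
      Polynomial.exists_monic_irreducible_factor _
        (fun hu => by
          have := natDegree_eq_zero_of_isUnit hu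
          rw [LinearMap.charpoly_natDegree, hN] at this
          omega)
    have := Fact.mk hf
    have : FiniteDimensional F (AdjoinRoot f) := (AdjoinRoot.powerBasis hf.ne_zero).finite
    obtain ⟨W, hW, e, he⟩ :=
      exists_decomposition g (isSemisimple_of_pow_eq_one g hk hg) f hmon hf hdvd
    obtain ⟨W', hW', e', he'⟩ :=
      exists_decomposition h (isSemisimple_of_pow_eq_one h hk hh) f hmon hf (heq ▸ hdvd)
    have hc : (g.restrict hW).charpoly = (h.restrict hW').charpoly := by
      have h1 := heq
      rw [charpoly_decomposition e he, charpoly_decomposition e' he'] at h1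
      exact mul_left_cancel₀ (LinearMap.charpoly_monic _).ne_zero h1
    have hlt : finrank F W < N := by
      have h1 := e.finrank_eq
      rw [finrank_prod, hN] at h1
      have : 0 < finrank F (AdjoinRoot f) := finrank_pos
      omega
    obtain ⟨eW, heW⟩ := ih _ hlt (g.restrict hW) (h.restrict hW') rfl (restrict_pow_eq_one hW hg)
      (restrict_pow_eq_one hW' hh) hc
    refine ⟨e.symm.trans (((LinearEquiv.refl F (AdjoinRoot f)).prodCongr eW).trans e'), fun x => ?_⟩
    obtain ⟨y, rfl⟩ := e.surjective x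
    simp only [LinearEquiv.trans_apply, LinearEquiv.symm_apply_apply, he y]
    rw [he']
    simp [heW]

/-- Any non-zero scalar is the determinant of an automorphism commuting with a semisimple one. -/
theorem exists_commute_det [Finite F] (g : End F V) (hss : g.IsSemisimple) [Nontrivial V]
    (δ : F) (hδ : δ ≠ 0) :
    ∃ a : V ≃ₗ[F] V, LinearMap.det (a : V →ₗ[F] V) = δ ∧ ∀ x, a (g x) = g (a x) := by
  obtain ⟨f, hmon, hf, hdvd⟩ : ∃ f : F[X], f.Monic ∧ Irreducible f ∧ f ∣ g.charpoly :=
    Polynomial.exists_monic_irreducible_factor _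
      (fun hu => by
        have := natDegree_eq_zero_of_isUnit hu
        rw [LinearMap.charpoly_natDegree] at this
        exact finrank_pos.ne' this)
  have := Fact.mk hf
  have : FiniteDimensional F (AdjoinRoot f) := (AdjoinRoot.powerBasis hf.ne_zero).finite
  have : Finite (AdjoinRoot f) := Module.finite_of_finite F
  obtain ⟨W, hW, e, he⟩ := exists_decomposition g hss f hmon hf hdvd
  obtain ⟨y, hy⟩ := FiniteField.norm_surjective F (AdjoinRoot f) δ
  let A : End F V := e.conj ((LinearMap.mulLeft F y).prodMap LinearMap.id)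
  have hA : LinearMap.det A = δ := by
    simp only [A, LinearEquiv.conj_apply]
    rw [LinearMap.comp_assoc, LinearMap.det_conj, LinearMap.det_prodMap, LinearMap.det_id, mul_one,
      ← hy, Algebra.norm_apply]
    rfl
  refine ⟨A.equivOfDetNeZero (hA ▸ hδ), hA, fun x => ?_⟩
  obtain ⟨z, rfl⟩ := e.surjective x
  show A (g (e z)) = g (A (e z))
  simp [A, LinearEquiv.conj_apply, he, mul_left_comm]

theorem charpoly_mulLeft_root {f : F[X]} [Fact (Irreducible f)] (hmon : f.Monic)
    [FiniteDimensional F (AdjoinRoot f)] :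
    (LinearMap.mulLeft F (AdjoinRoot.root f)).charpoly = f := by
  classical
  let pb := AdjoinRoot.powerBasis hmon.ne_zero
  have h := charpoly_leftMulMatrix pb
  rw [AdjoinRoot.powerBasis_gen, AdjoinRoot.minpoly_root hmon.ne_zero, hmon.leadingCoeff, inv_one,
    C_1, mul_one] at h
  rw [← LinearMap.charpoly_toMatrix _ pb.basis]
  exact h

end CfsgLib.Semisimple
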